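import Cfsg.Agent.Spor.DE2
import Cfsg.Agent.Spor.HNG.C0

set_option autoImplicit false
set_option maxRecDepth 100000000
set_option Elab.async false

namespace Cfsg.Agent.Spor.HNG

section
variable {R : Type} [CommRing R] {Γ : Type} [Group Γ] {G : Type} [Group G] {Y : DCtx D R Γ G}
  {g : ℕ → Γ} {a : ℕ → G}

theorem one : Y.sym 1 = Y.t := DCtx.sym_one okT

theorem upto (hA : Y.At 6 g a) (hw : ∀ w ∈ BW, ev a w = 1) : Y.Upto 696 := by
  have h := DCtx.Upto.zero (Y := Y)
  have h := h.chkB one hA (fun w h => hw w (List.contains_iff_mem.mp (List.all_eq_true.mp (show (List.map (Bs.word 6) _).all BW.contains = true by decide +kernel) w h))) b0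
  have h := h.chk one c0
  have h := h.chk one c1
  have h := h.chk one c2
  have h := h.chk one c3
  have h := h.chk one c4
  have h := h.chk one c5
  have h := h.chk one c6
  have h := h.chk one c7
  exact h

end

end Cfsg.Agent.Spor.HNG
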